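import Groth.Agent.ProjModLib.Main
import Groth.Agent.VertIntLib.Matrix
import Groth.Agent.VertChiLib.ModelList
import Groth.Agent.FibDimLib.Pure
import Groth.Agent.VertIntLib.Pic

/-!
# Regular proper models of curves are arithmetic surfaces
-/

set_option autoImplicit false
set_option linter.style.haveILetI false
set_option linter.unusedSectionVars false
set_option maxHeartbeats 2000000
set_option backward.isDefEq.respectTransparency false
set_option backward.isDefEq.respectTransparency.types false
universe u

open CategoryTheory CategoryTheory.Limits AlgebraicGeometry TopologicalSpace Topology IsLocalRing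

noncomputable section

namespace ProjModLib

theorem two_le_dim {A : Type*} [TopologicalSpace A] [T0Space A] [QuasiSober A] (a b c : A) (h1 : a ⤳ b) (h2 : b ⤳ c)
    (n1 : a ≠ b) (n2 : b ≠ c) (n3 : a ≠ c) : (2 : WithBot ℕ∞) ≤ topologicalKrullDim A := by
  have hch : FibDimLib.IsSpecChain (n := 2) ![a, b, c] := by
    constructor
    · intro i j
      fin_cases i <;> fin_cases j <;> simp [n1, n1.symm, n2, n2.symm, n3, n3.symm]
    · intro i j hij
      fin_cases i <;> fin_cases j <;>
        first
          | exact absurd hij (by decide)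
          | simp [specializes_rfl, h1, h2, h1.trans h2]
  exact hch.le_topologicalKrullDim

/-- A regular proper model of a curve has dimension two. -/
theorem dim_model {R : Type u} [CommRing R] [IsDomain R] [IsDiscreteValuationRing R]
    {C X : Scheme.{u}} {f : C ⟶ Spec (CommRingCat.of (FractionRing R))} {p : X ⟶ Spec (CommRingCat.of R)}
    (hC : Curve.IsSmoothProperCurve (FractionRing R) C f) (hX : Models.IsRegularProperModel R X p C f) :
    topologicalKrullDim (Over.mk p).left = 2 := by
  obtain ⟨n, Γ, hΓ⟩ := VertChiLib.exists_list_of_model hC hX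
  obtain ⟨hMod, hp, hreg⟩ := hX
  haveI : IsIntegral (Over.mk p).left := VertIntLib.isIntegral_of_model hC hMod hreg
  haveI : Flat (Over.mk p).hom := hMod.1
  haveI : IsProper (Over.mk p).hom := hp
  haveI : IsLocallyNoetherian (Over.mk p).left := LocallyOfFiniteType.isLocallyNoetherian (Over.mk p).hom
  obtain ⟨-, -, -, g, hg⟩ := hMod
  let P := Over.mk p
  have hrange : Set.range g = {x | p x = RelMinSmLib.eta (R := R)} := by
    rw [← hg.isoPullback_hom_fst, Scheme.Hom.comp_base, TopCat.coe_comp,
      Set.range_comp, Set.range_eq_univ.2 hg.isoPullback.hom.surjective, Set.image_univ,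
      Scheme.Pullback.range_fst, RelMinSmLib.range_genPt]
    rfl
  have hemb : IsEmbedding g := by
    haveI : IsPreimmersion (Spec.map (CommRingCat.ofHom (algebraMap R (FractionRing R)))) :=
      IsPreimmersion.of_isLocalization (S := FractionRing R) (nonZeroDivisors R)
    haveI : IsPreimmersion g := MorphismProperty.of_isPullback hg.flip inferInstance
    exact g.isEmbedding
  -- chains inside one fibre
  have hs3 : ∀ a b c : P.left, P.hom a = closedPoint R → a ⤳ b → b ⤳ c → a ≠ b → b ≠ c → False := by
    intro a b c ha hab hbc nab nbc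
    obtain ⟨i, hi⟩ := VertIntLib.cover_of_list hΓ a ha
    obtain ⟨a', rfl⟩ := hi
    obtain ⟨b', rfl⟩ := hab.mem_closed (Γ i).ι.isClosedEmbedding.isClosed_range ⟨a', rfl⟩
    obtain ⟨c', rfl⟩ := hbc.mem_closed (Γ i).ι.isClosedEmbedding.isClosed_range ⟨b', rfl⟩
    exact FinPicLib.not_three (Γ i).dim_eq.le ((Γ i).ι.isEmbedding.specializes_iff.1 hab)
      ((Γ i).ι.isEmbedding.specializes_iff.1 hbc) (fun h => nab (congrArg _ h)) fun h => nbc (congrArg _ h)
  have heta : ∀ x : P.left, P.hom x ≠ closedPoint R → P.hom x = RelMinSmLib.eta (R := R) := fun x hx => by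
    rcases VertIntLib.eta_or_closedPoint (P.hom x) with h | h
    · exact h
    · exact absurd h hx
  have hsp : ∀ a b : P.left, a ⤳ b → P.hom a = closedPoint R → P.hom b = closedPoint R := fun a b hab ha =>
    (hab.map P.hom.continuous).mem_closed (IsLocalRing.isClosed_singleton_closedPoint R) ha
  have hη3 : ∀ a b c : P.left, P.hom c ≠ closedPoint R → a ⤳ b → b ⤳ c → a ≠ b → b ≠ c → False := by
    intro a b c hc hab hbc nab nbc
    obtain ⟨c', rfl⟩ := hrange.ge (heta c hc)
    obtain ⟨b', rfl⟩ := hrange.ge (heta b fun h => hc (hsp _ _ hbc h))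
    obtain ⟨a', rfl⟩ := hrange.ge (heta a fun h => hc (hsp _ _ (hab.trans hbc) h))
    exact FinPicLib.not_three hC.2.2.2.le (hemb.specializes_iff.1 hab)
      (hemb.specializes_iff.1 hbc) (fun h => nab (congrArg _ h)) fun h => nbc (congrArg _ h)
  have h4 : ∀ a b c d : P.left, a ⤳ b → b ⤳ c → c ⤳ d → a ≠ b → b ≠ c → c ≠ d → False := by
    intro a b c d hab hbc hcd nab nbc ncd
    by_cases hb : P.hom b = closedPoint R
    · exact hs3 b c d hb hbc hcd nbc ncd
    by_cases hc : P.hom c = closedPoint R
    swap
    · exact hη3 a b c hc hab hbc nab nbc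
    obtain ⟨i, hi⟩ := VertIntLib.cover_of_list hΓ c hc
    have hγ : c = Models.genPtOf R P (Γ i) := by
      by_contra hne
      exact hs3 _ c d (VertIntLib.genPt_over (Γ i))
        (specializes_iff_mem_closure.2 ((VertIntLib.range_eq_closure (Γ i)).le hi)) hcd (Ne.symm hne) ncd
    have hd1 : topologicalKrullDim (Spec (P.left.presheaf.stalk c)) ≤ 1 :=
      ((PrimeSpectrum.topologicalKrullDim_eq_ringKrullDim _).trans
        (VertIntLib.dim_stalk_eq_one hc (hγ ▸ VertIntLib.isFibGen_of_list hΓ i))).le
    obtain ⟨pa, ha'⟩ : a ∈ Set.range (P.left.fromSpecStalk c) := by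
      rw [Scheme.range_fromSpecStalk]; exact hab.trans hbc
    obtain ⟨pb, hb'⟩ : b ∈ Set.range (P.left.fromSpecStalk c) := by
      rw [Scheme.range_fromSpecStalk]; exact hbc
    obtain ⟨pc, hc'⟩ : c ∈ Set.range (P.left.fromSpecStalk c) := by
      rw [Scheme.range_fromSpecStalk]; exact specializes_rfl
    have hi' := (P.left.fromSpecStalk c).isEmbedding.isInducing
    exact FinPicLib.not_three hd1
      (hi'.specializes_iff.1 (show P.left.fromSpecStalk c pa ⤳ P.left.fromSpecStalk c pb by rw [ha', hb']; exact hab))
      (hi'.specializes_iff.1 (show P.left.fromSpecStalk c pb ⤳ P.left.fromSpecStalk c pc by rw [hb', hc']; exact hbc))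
      (fun e => nab (by rw [← ha', ← hb', e])) fun e => nbc (hb'.symm.trans ((congrArg _ e).trans hc'))
  refine le_antisymm ?_ ?_
  · by_contra hd
    obtain ⟨l, hl⟩ := Order.le_krullDim_iff.1 (show ((3 : ℕ) : WithBot ℕ∞) ≤ topologicalKrullDim P.left by
      have h : ((2 : ℕ) : WithBot ℕ∞) < topologicalKrullDim P.left := not_le.1 hd
      generalize topologicalKrullDim P.left = d at h ⊢
      induction d with
      | bot => simp at h
      | coe d =>
        induction d using ENat.recTopCoe with
        | top => exact WithBot.coe_le_coe.2 le_top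
        | coe d =>
          have h1 : ((2 : ℕ) : ℕ∞) < (d : ℕ∞) := WithBot.coe_lt_coe.1 h
          have h2 : 2 < d := by exact_mod_cast h1
          have h3 : ((3 : ℕ) : ℕ∞) ≤ (d : ℕ∞) := by exact_mod_cast (show 3 ≤ d by omega)
          exact WithBot.coe_le_coe.2 h3)
    have hst : ∀ s t : IrreducibleCloseds P.left, s < t →
        t.2.genericPoint ⤳ s.2.genericPoint ∧ t.2.genericPoint ≠ s.2.genericPoint := fun s t hst => by
      have hs := s.2.isGenericPoint_genericPoint s.3
      have ht := t.2.isGenericPoint_genericPoint t.3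
      refine ⟨ht.specializes (hst.le hs.mem), fun he => hst.ne (IrreducibleCloseds.ext ?_)⟩
      show s.carrier = t.carrier
      rw [← hs.def, ← ht.def, he]
    exact h4 _ _ _ _ (hst _ _ (l.step ⟨2, by omega⟩)).1 (hst _ _ (l.step ⟨1, by omega⟩)).1
      (hst _ _ (l.step ⟨0, by omega⟩)).1 (hst _ _ (l.step ⟨2, by omega⟩)).2
      (hst _ _ (l.step ⟨1, by omega⟩)).2 (hst _ _ (l.step ⟨0, by omega⟩)).2
  · obtain ⟨z, hz⟩ : ∃ z, P.hom z = closedPoint R := by
      obtain ⟨w, -, hw⟩ := P.hom.isClosedMap.specializingMap
        (IsLocalRing.specializes_closedPoint (P.hom (genericPoint P.left)))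
      exact ⟨w, hw⟩
    obtain ⟨i, -⟩ := VertIntLib.cover_of_list hΓ z hz
    obtain ⟨c, hc⟩ : ∃ c, c ≠ genericPoint (Γ i).curve.left := by
      by_contra! hall
      haveI : Subsingleton ↥(Γ i).curve.left := ⟨fun a b => (hall a).trans (hall b).symm⟩
      have h3 := topologicalKrullDim_zero_of_discreteTopology (X := ↥(Γ i).curve.left)
      rw [(Γ i).dim_eq] at h3
      exact absurd h3 (by decide)
    have h1 : genericPoint P.left ⤳ Models.genPtOf R P (Γ i) := (genericPoint_spec P.left).specializes trivial
    have h2 : Models.genPtOf R P (Γ i) ⤳ (Γ i).ι c :=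
      ((genericPoint_spec (Γ i).curve.left).specializes (y := c) trivial).map (Γ i).ι.continuous
    have n1 : genericPoint P.left ≠ Models.genPtOf R P (Γ i) := fun h => by
      have := VertIntLib.genPt_over (Γ i)
      rw [← h, VertIntLib.genericPoint_over] at this
      exact VertIntLib.eta_ne_closedPoint this
    have n2 : Models.genPtOf R P (Γ i) ≠ (Γ i).ι c := fun h => hc ((Γ i).ι.isEmbedding.injective h).symm
    have n3 : genericPoint P.left ≠ (Γ i).ι c := fun h => n1 (h1.antisymm (h2.trans (by rw [← h]))).eq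
    exact two_le_dim _ _ _ h1 h2 n1 n2 n3

/-- A regular proper model of a curve is an arithmetic surface. -/
theorem isArithSurface_model {R : Type u} [CommRing R] [IsDomain R] [IsDiscreteValuationRing R]
    {C X : Scheme.{u}} {f : C ⟶ Spec (CommRingCat.of (FractionRing R))} {p : X ⟶ Spec (CommRingCat.of R)}
    (hC : Curve.IsSmoothProperCurve (FractionRing R) C f) (hX : Models.IsRegularProperModel R X p C f) :
    ArSurf.IsArithSurface R (Over.mk p) := by
  have hd := dim_model hC hX
  obtain ⟨hMod, hp, hreg⟩ := hX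
  haveI : IsIntegral (Over.mk p).left := VertIntLib.isIntegral_of_model hC hMod hreg
  haveI : Flat (Over.mk p).hom := hMod.1
  haveI : IsProper (Over.mk p).hom := hp
  exact isArithSurface hreg hd

end ProjModLib
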