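import Groth.Agent.VertIntLib.PicApps
import Groth.Agent.VertIntLib.Kernel
import Groth.Agent.VertChiLib.CompExists
import Groth.Agent.RelMinSmLib.Main
import Groth.Agent.DvrProperLib.Closure
import Groth.Agent.AmpleDevLib.Components
import Groth.Agent.AmpleThLib.Embed
import Groth.Agent.AmpleThLib.VeryAmple
import Groth.Agent.ChowLib.Embed
import Groth.Agent.SerreVanLib.CurveAmple
import Groth.Agent.MiscFlat6.InvDual
import Groth.Agent.P1InterLib.Sect
import Groth.Agent.S0054
import Groth.Agent.S1684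
import Groth.Agent.ParaFLib.Basic

/-!
# Regular proper surfaces over a discrete valuation ring are projective
-/

set_option autoImplicit false
set_option linter.style.haveILetI false
set_option linter.unusedSectionVars false
set_option maxHeartbeats 2000000
set_option backward.isDefEq.respectTransparency false
set_option backward.isDefEq.respectTransparency.types false
universe u

open CategoryTheory CategoryTheory.Limits AlgebraicGeometry TopologicalSpace Topology IsLocalRing
open CubeConsLib EquidimLib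

noncomputable section

namespace ProjModLib

variable {R : Type u} [CommRing R] [IsDomain R] [IsDiscreteValuationRing R]
variable {X : Over (Spec (CommRingCat.of R))} [IsProper X.hom] [Flat X.hom] [IsIntegral X.left]

/-- A prime of height one avoiding a uniformiser at a non-generic point of the closed fibre. -/
theorem exists_horizontal_prime (hreg : ∀ x : X.left, IsRegularLocalRing (X.left.presheaf.stalk x))
    (x : X.left) (hx : X.hom x = closedPoint R) (hx' : ¬ VertIntLib.IsFibGen x) :
    ∃ ξ : X.left, ξ ⤳ x ∧ X.hom ξ ≠ closedPoint R ∧ ξ ≠ genericPoint X.left ∧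
      ringKrullDim (X.left.presheaf.stalk ξ) = 1 := by
  haveI : IsLocallyNoetherian X.left := LocallyOfFiniteType.isLocallyNoetherian X.hom
  set A := X.left.presheaf.stalk x
  haveI : IsDomain A := inferInstance
  obtain ⟨ϖ, hϖi⟩ := IsDiscreteValuationRing.exists_irreducible R
  have hϖ : maximalIdeal R = Ideal.span {ϖ} := hϖi.maximalIdeal_eq
  set t : A := Models.stalkHom R X x ϖ
  have ht0 : t ≠ 0 := VertIntLib.pi_ne_zero x hϖ
  have hclosed : stalkPt x (closedPoint A) = x := Scheme.fromSpecStalk_closedPoint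
  have hP : ∀ P ∈ (Ideal.span {t}).minimalPrimes, ¬ maximalIdeal A ≤ P := fun P hP hle => hx' fun z hz hzx => by
    obtain ⟨q, hq⟩ := EquidimLib.exists_stalkPt hzx
    have h1 : t ∈ q.asIdeal := (VertIntLib.pi_mem_iff x q hϖ).2 (by rw [hq]; exact hz)
    have hPm : P = maximalIdeal A := (le_maximalIdeal hP.1.1.ne_top).antisymm hle
    have h2 : P ≤ q.asIdeal := hP.2 ⟨q.2, (Ideal.span_singleton_le_iff_mem _).2 h1⟩ (by
      rw [hPm]; exact le_maximalIdeal q.2.ne_top)
    have h3 : q = closedPoint A := PrimeSpectrum.ext ((le_maximalIdeal q.2.ne_top).antisymm (hPm ▸ h2))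
    rw [← hq, h3, hclosed]
  have hfin : (Ideal.span {t}).minimalPrimes.Finite := Ideal.finite_minimalPrimes_of_isNoetherianRing A _
  obtain ⟨g, hgm, hg⟩ : ∃ g ∈ maximalIdeal A, ∀ P ∈ (Ideal.span {t}).minimalPrimes, g ∉ P := by
    by_contra! h
    have hsub : (maximalIdeal A : Set A) ⊆ ⋃ P ∈ (hfin.toFinset : Set (Ideal A)), (P : Set A) := fun g hg => by
      obtain ⟨P, hP, hgP⟩ := h g hg
      exact Set.mem_biUnion (hfin.coe_toFinset.ge hP) hgP
    obtain ⟨P, hPf, hle⟩ := (Ideal.subset_union_prime (f := id) ⊥ ⊥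
      (fun P hP _ _ => (hfin.mem_toFinset.1 hP).1.1)).1 hsub
    exact hP P (hfin.mem_toFinset.1 hPf) hle
  have htm : t ∈ maximalIdeal A := (VertIntLib.pi_mem_iff x (closedPoint A) hϖ).2 (by rw [hclosed]; exact hx)
  obtain ⟨P₀, hP₀, -⟩ := Ideal.exists_minimalPrimes_le ((Ideal.span_singleton_le_iff_mem _).2 htm)
  have hg0 : g ≠ 0 := fun h => hg P₀ hP₀ (h ▸ zero_mem _)
  obtain ⟨q, hq, -⟩ := Ideal.exists_minimalPrimes_le ((Ideal.span_singleton_le_iff_mem _).2 hgm)
  haveI := hq.1.1
  have hqne : q ≠ ⊥ := fun h => hg0 (Ideal.mem_bot.1 (h ▸ hq.1.2 (Ideal.mem_span_singleton_self g)))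
  have hq1 : q.height ≤ 1 := Ideal.height_le_one_of_isPrincipal_of_mem_minimalPrimes _ _ hq
  have htq : t ∉ q := fun h => by
    obtain ⟨P, hP', hle⟩ := Ideal.exists_minimalPrimes_le ((Ideal.span_singleton_le_iff_mem _).2 h)
    haveI := hP'.1.1
    rcases hle.eq_or_lt with he | hlt
    · exact hg P hP' (he ▸ hq.1.2 (Ideal.mem_span_singleton_self g))
    · have h1 : (⊥ : Ideal A).height < P.height := Ideal.height_strict_mono_of_isPrime
        (bot_lt_iff_ne_bot.2 fun hb => ht0 (Ideal.mem_bot.1 (hb ▸ hP'.1.2 (Ideal.mem_span_singleton_self t))))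
      have h2 : P.height < q.height := Ideal.height_strict_mono_of_isPrime hlt
      have : (1 : ℕ∞) ≤ P.height := Order.one_le_iff_pos.2 (lt_of_le_of_lt zero_le h1)
      exact absurd (h2.trans_le hq1) (not_lt.2 this)
  let Q : PrimeSpectrum A := ⟨q, ‹q.IsPrime›⟩
  refine ⟨stalkPt x Q, EquidimLib.stalkPt_specializes x Q, fun h => htq ((VertIntLib.pi_mem_iff x Q hϖ).2 h), ?_, ?_⟩
  · intro h
    refine hqne (le_bot_iff.1 ?_)
    have hsp : stalkPt x Q ⤳ stalkPt x ⟨⊥, Ideal.isPrime_bot⟩ := by
      rw [h]; exact (genericPoint_spec X.left).specializes trivial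
    exact EquidimLib.le_of_stalkPt hsp
  · rw [EquidimLib.stalk_dim_eq, show {v : X.left | v ⤳ stalkPt x Q} =
      {v | v ∈ Set.range (stalkPt x) ∧ v ⤳ stalkPt x Q} from Set.ext fun v =>
        ⟨fun hv => ⟨EquidimLib.exists_stalkPt ((hv : v ⤳ stalkPt x Q).trans (EquidimLib.stalkPt_specializes x Q)), hv⟩,
          fun h => h.2⟩, ← EquidimLib.height_eq_of_inducing (EquidimLib.isInducing_stalkPt x) Q]
    have : q.height = 1 := le_antisymm hq1 (Order.one_le_iff_pos.2
      (lt_of_le_of_lt zero_le (Ideal.height_strict_mono_of_isPrime (bot_lt_iff_ne_bot.2 hqne))))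
    exact_mod_cast this

/-- An effective Cartier divisor meeting a given component and containing none. -/
theorem exists_divisor (hreg : ∀ x : X.left, IsRegularLocalRing (X.left.presheaf.stalk x))
    (hdim : topologicalKrullDim X.left = 2) (Γ₀ : ArSurf.VertComp R X) :
    ∃ L : X.left.Modules, PicF.IsInvertible L ∧ 0 < ArSurf.inter R X L Γ₀ ∧
      ∀ Γ : ArSurf.VertComp R X, 0 ≤ ArSurf.inter R X L Γ := by
  haveI : IsLocallyNoetherian X.left := LocallyOfFiniteType.isLocallyNoetherian X.hom
  haveI : CompactSpace X.left := QuasiCompact.compactSpace_of_compactSpace X.hom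
  haveI : IsNoetherian X.left := ⟨⟩
  obtain ⟨x, hxΓ, hxcl⟩ := Γ₀.ι.isClosedEmbedding.isClosed_range.exists_closed_singleton
    (Set.range_nonempty _)
  have hxs : X.hom x = closedPoint R := by
    obtain ⟨c, rfl⟩ := hxΓ
    exact VertIntLib.over_closedPoint Γ₀ c
  have hxne : Models.genPtOf R X Γ₀ ≠ x := fun h => by
    have h1 : ({genericPoint Γ₀.curve.left} : Set Γ₀.curve.left) = Γ₀.ι ⁻¹' {x} := by
      ext c
      refine ⟨?_, fun hc => Γ₀.ι.isEmbedding.injective ((Set.mem_singleton_iff.1 hc).trans h.symm)⟩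
      rintro rfl
      exact h
    have h2 : IsClosed ({genericPoint Γ₀.curve.left} : Set Γ₀.curve.left) := h1 ▸ hxcl.preimage Γ₀.ι.continuous
    have hall : ∀ c : Γ₀.curve.left, c = genericPoint Γ₀.curve.left := fun c => by
      have := ((genericPoint_spec Γ₀.curve.left).specializes (Set.mem_univ c)).mem_closed h2 rfl
      exact this
    haveI : Subsingleton ↥Γ₀.curve.left := ⟨fun a b => (hall a).trans (hall b).symm⟩
    have h3 := topologicalKrullDim_zero_of_discreteTopology (X := ↥Γ₀.curve.left)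
    rw [Γ₀.dim_eq] at h3
    exact absurd h3 (by decide)
  have hx' : ¬ VertIntLib.IsFibGen x := fun hg => hxne (hg _ (VertIntLib.genPt_over Γ₀)
    (specializes_iff_mem_closure.2 ((VertIntLib.range_eq_closure Γ₀).le hxΓ)))
  obtain ⟨ξ, hξx, hξs, hξg, hξd⟩ := exists_horizontal_prime hreg x hxs hx'
  haveI : IsIntegral (IntMult.ptIdeal ξ).subscheme :=
    AmpleDevLib.isIntegral_vanishingIdeal _ isIrreducible_singleton.closure
  have hgen : (IntMult.ptIdeal ξ).subschemeι (genericPoint (IntMult.ptIdeal ξ).subscheme) = ξ := by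
    have h := Scheme.IdealSheafData.range_subschemeι (IntMult.ptIdeal ξ)
    rw [IntMult.ptIdeal, Scheme.IdealSheafData.coe_support_vanishingIdeal] at h
    obtain ⟨u, hu⟩ := h.ge (subset_closure rfl)
    have h1 : ξ ⤳ (IntMult.ptIdeal ξ).subschemeι (genericPoint (IntMult.ptIdeal ξ).subscheme) :=
      specializes_iff_mem_closure.2 (h.le ⟨_, rfl⟩)
    have h2 := ((genericPoint_spec (IntMult.ptIdeal ξ).subscheme).specializes (y := u) trivial).map
      (IntMult.ptIdeal ξ).subschemeι.continuous
    exact ((hu ▸ h2).antisymm h1).eq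
  have hI : BlowUp.IsEffCartierIdeal (IntMult.ptIdeal ξ) := by
    refine Groth.Agent.S1684.result X.left (IntMult.ptIdeal ξ) ?_ fun v _ => VertIntLib.ufd_stalk hreg v
    rw [hgen]; exact hξd
  have hsupp : ((IntMult.ptIdeal ξ).support : Set X.left) = closure {ξ} :=
    Scheme.IdealSheafData.coe_support_vanishingIdeal _
  have hnot : ∀ Γ : ArSurf.VertComp R X, Models.genPtOf R X Γ ∉ (IntMult.ptIdeal ξ).support := fun Γ h => by
    have hsp : ξ ⤳ Models.genPtOf R X Γ := specializes_iff_mem_closure.2 (hsupp.le h)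
    obtain ⟨c, hc⟩ : ∃ c, c ≠ genericPoint Γ.curve.left := by
      by_contra! hall
      haveI : Subsingleton ↥Γ.curve.left := ⟨fun a b => (hall a).trans (hall b).symm⟩
      have h3 := topologicalKrullDim_zero_of_discreteTopology (X := ↥Γ.curve.left)
      rw [Γ.dim_eq] at h3
      exact absurd h3 (by decide)
    refine RelMinSmLib.not_four hdim.le ((genericPoint_spec X.left).specializes trivial) hsp
      (((genericPoint_spec Γ.curve.left).specializes (y := c) trivial).map Γ.ι.continuous) hξg.symm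
      (fun he => hξs (he ▸ VertIntLib.genPt_over Γ)) fun he => hc (Γ.ι.isEmbedding.injective he).symm
  let L := MiscFlat6.dual (ClSub.idealMod (IntMult.ptIdeal ξ))
  have hIi : PicF.IsInvertible (ClSub.idealMod (IntMult.ptIdeal ξ)) := IntMultLib.isInvertible_idealMod _ hI
  have hL : ClSub.IsInverseOf L (ClSub.idealMod (IntMult.ptIdeal ξ)) := by
    refine cl_eq_one_iff.1 ?_
    rw [cl_tensor, mul_comm, ← cl_tensor]
    exact cl_eq_one_iff.2 (MiscFlat6.nonempty_dualIso hIi)
  refine ⟨L, MiscFlat6.dual_isInvertible hIi, ?_, fun Γ => (VertIntLib.inter_effective_nonneg Γ hI (hnot Γ) hL).1⟩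
  obtain ⟨h0, hiff⟩ := VertIntLib.inter_effective_nonneg Γ₀ hI (hnot Γ₀) hL
  exact lt_of_le_of_ne h0 fun h => Set.disjoint_left.1 (hiff.1 h.symm) hxΓ
    (hsupp.ge (specializes_iff_mem_closure.1 hξx))

/-- A module positive on all components is ample. -/
theorem isAmple_of_pos {n : ℕ} {Γ : Fin n → ArSurf.VertComp R X} (hΓ : Models.IsComponentList R X Γ)
    {L : X.left.Modules} (hL : PicF.IsInvertible L) (hpos : ∀ i, 0 < ArSurf.inter R X L (Γ i)) :
    CohB1.IsAmple L := by
  haveI : IsLocallyNoetherian X.left := LocallyOfFiniteType.isLocallyNoetherian X.hom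
  set s := closedPoint R
  haveI : IsClosedImmersion (X.hom.fiberι s) := by
    refine IsClosedImmersion.of_isPreimmersion _ ?_
    rw [Scheme.Hom.range_fiberι]
    exact (IsLocalRing.isClosed_singleton_closedPoint R).preimage X.hom.continuous
  have hfib : CohB1.IsAmple ((Scheme.Modules.pullback (X.hom.fiberι s)).obj L) := by
    refine AmpleDevLib.isAmple_of_integral (X.hom.fiberι s ≫ X.hom) (AmpleDevLib.isInvertible_pb _ hL)
      fun Z i hi hZ => ?_
    haveI := hi; haveI := hZ
    let i' := i ≫ X.hom.fiberι s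
    have hz : X.hom (i' (genericPoint Z)) = s := (X.hom.range_fiberι s).le ⟨i (genericPoint Z), rfl⟩
    obtain ⟨j, hj⟩ := VertIntLib.cover_of_list hΓ _ hz
    have hsub : Set.range i' ⊆ Set.range (Γ j).ι.base := by
      rintro _ ⟨z, rfl⟩
      exact (((genericPoint_spec Z).specializes (y := z) trivial).map i'.continuous).mem_closed
        (Γ j).ι.isClosedEmbedding.isClosed_range hj
    let l := IsClosedImmersion.lift (Γ j).ι i' (DvrProperLib.ker_le_ker_of_range_subset _ _ hsub)
    have hl : l ≫ (Γ j).ι = i' := IsClosedImmersion.lift_fac _ _ _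
    haveI : IsClosedImmersion (l ≫ (Γ j).ι) := by rw [hl]; infer_instance
    haveI : IsClosedImmersion l := IsClosedImmersion.of_comp l (Γ j).ι
    haveI := VertIntLib.isProper_curve (Γ j)
    have hC : CohB1.IsAmple ((Scheme.Modules.pullback (Γ j).ι).obj L) := by
      refine SerreVanLib.isAmple_of_deg_pos (k := ResidueField R) (Γ j).dim_eq (AmpleDevLib.isInvertible_pb _ hL) ?_
      have := hpos j
      rwa [VertIntLib.inter_eq_deg] at this
    refine AmpleDevLib.isAmple_of_iso (AmpleDevLib.isInvertible_pb l (AmpleDevLib.isInvertible_pb _ hL))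
      (AmpleDevLib.isInvertible_pb i (AmpleDevLib.isInvertible_pb _ hL)) ?_
      (AmpleDevLib.isAmple_pb l (AmpleDevLib.isInvertible_pb _ hL) hC)
    exact (Scheme.Modules.pullbackComp l (Γ j).ι).app L ≪≫ (Scheme.Modules.pullbackCongr hl).app L ≪≫
      ((Scheme.Modules.pullbackComp i (X.hom.fiberι s)).app L).symm
  obtain ⟨V, hsV, hV⟩ := Groth.Agent.S0054.result X.hom L hL s hfib
  have hVtop : V = ⊤ := top_le_iff.1 fun z _ => (IsLocalRing.specializes_closedPoint z).mem_open V.2 hsV
  have h := hV V le_rfl (hVtop ▸ isAffineOpen_top _)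
  let j := (X.hom ⁻¹ᵁ V).ι
  haveI : IsIso j := by
    haveI : Epi j.base := (TopCat.epi_iff_surjective _).2 fun z => ⟨⟨z, hVtop ▸ trivial⟩, rfl⟩
    exact IsOpenImmersion.isIso j
  have hj : CohB1.IsAmple ((Scheme.Modules.pullback j).obj L) :=
    AmpleDevLib.isAmple_of_iso (hL := (ParaFLib.isInvertible_restrict _ hL)) (AmpleDevLib.isInvertible_pb j hL)
      ((Scheme.Modules.restrictFunctorIsoPullback j).app L) h
  refine AmpleDevLib.isAmple_of_iso (AmpleDevLib.isInvertible_pb (inv j) (AmpleDevLib.isInvertible_pb j hL)) hL ?_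
    (AmpleDevLib.isAmple_pb (inv j) (AmpleDevLib.isInvertible_pb j hL) hj)
  exact (Scheme.Modules.pullbackComp (inv j) j).app L ≪≫ (Scheme.Modules.pullbackCongr (IsIso.inv_hom_id j)).app L ≪≫
    (Scheme.Modules.pullbackId X.left).app L

/-- An ample module gives a projective embedding over the base. -/
theorem isProjectiveOver_of_isAmple {L : X.left.Modules} (hL : PicF.IsInvertible L) (hA : CohB1.IsAmple L) :
    Neron.IsProjectiveOver R X := by
  haveI : IsLocallyNoetherian X.left := LocallyOfFiniteType.isLocallyNoetherian X.hom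
  haveI : CompactSpace X.left := QuasiCompact.compactSpace_of_compactSpace X.hom
  haveI : IsNoetherian X.left := ⟨⟩
  obtain ⟨n₀, hd⟩ := AmpleThLib.exists_data X.hom hL hA
  obtain ⟨m, w, K, hcov, haff, hsur⟩ := hd n₀ le_rfl
  obtain ⟨m', j, hj, hjh, -⟩ := AmpleThLib.exists_immersion X.hom (AmpleThLib.tensorPow_isInvertible hL n₀) w K hcov
    haff hsur
  haveI := hj
  haveI : IsProper (CohB1.ProjSpaceOver.toBase m' (Spec (CommRingCat.of R))) := ChowLib.isProper_toBase m' _
  haveI : IsProper j := by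
    haveI : IsProper (j ≫ CohB1.ProjSpaceOver.toBase m' (Spec (CommRingCat.of R))) := hjh.symm ▸ ‹IsProper X.hom›
    exact IsProper.of_comp j (CohB1.ProjSpaceOver.toBase m' _)
  exact ⟨m', j, IsClosedImmersion.of_isPreimmersion j j.isClosedMap.isClosed_range, hjh⟩

/-- Lichtenbaum: a regular proper flat surface over a discrete valuation ring is projective. -/
theorem isArithSurface (hreg : ∀ x : X.left, IsRegularLocalRing (X.left.presheaf.stalk x))
    (hdim : topologicalKrullDim X.left = 2) : ArSurf.IsArithSurface R X := by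
  obtain ⟨n, Γ, hΓ⟩ := VertChiLib.exists_list_of_dim_two (X := X) hdim
  choose D hD hpos hnn using fun i => exists_divisor hreg hdim (Γ i)
  let l := List.ofFn D
  have hl : ∀ M ∈ l, PicF.IsInvertible M := fun M hM => by
    obtain ⟨i, rfl⟩ := List.mem_ofFn.1 hM
    exact hD i
  have hspec := fun Γ₀ => VertIntLib.list_spec Γ₀ l hl
  have hLi : PicF.IsInvertible (FGA.tensorList l) := by
    rcases n with _ | n
    · simp only [l, List.ofFn_zero, FGA.tensorList]; exact CurvLib.isInvertible_structureModule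
    · exact (hspec (Γ 0)).1
  refine ⟨hreg, ‹IsIntegral X.left›, hdim, ‹Flat X.hom›,
    isProjectiveOver_of_isAmple hLi (isAmple_of_pos hΓ hLi fun i => ?_)⟩
  rw [(hspec (Γ i)).2, List.map_ofFn, List.sum_ofFn]
  exact Finset.sum_pos' (fun k _ => hnn k (Γ i)) ⟨i, Finset.mem_univ _, hpos i⟩

end ProjModLib
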